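import Mathlib.Algebra.CharP.Lemmas
import Mathlib.FieldTheory.Perfect
import Mathlib.FieldTheory.Finite.Basic
import Mathlib.RingTheory.IntegralClosure.IsIntegralClosure.Basic
import Mathlib.RingTheory.PowerSeries.Basic
import Mathlib.RingTheory.Localization.AtPrime.Basic

/-!
# Rings with finite Frobenius
-/

set_option autoImplicit false
universe u

namespace Groth.Agent.FFinite23

variable (p : ℕ) [Fact p.Prime]

lemma finiteType_of_closure {A S : Type u} [CommRing A] [CommRing S] (g : A →+* S) (X : Finset S)
    (h : Subring.closure (Set.range g ∪ ↑X) = ⊤) : g.FiniteType := by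
  letI : Algebra A S := g.toAlgebra
  show Algebra.FiniteType A S
  refine ⟨⟨X, eq_top_iff.mpr fun s _ => ?_⟩⟩
  have hs : s ∈ Subring.closure (Set.range g ∪ ↑X) := by rw [h]; trivial
  have hle : Subring.closure (Set.range g ∪ ↑X) ≤ (Algebra.adjoin A (↑X : Set S)).toSubring := by
    rw [Subring.closure_le]
    rintro x (⟨c, rfl⟩ | hx)
    · exact Subalgebra.algebraMap_mem _ c
    · exact Algebra.subset_adjoin hx
  exact hle hs

lemma exists_generators {R S : Type u} [CommRing R] [CommRing S] (g : R →+* S) (h : g.Finite) :
    ∃ G : Finset S, Subring.closure (Set.range g ∪ ↑G) = ⊤ := by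
  letI : Algebra R S := g.toAlgebra
  obtain ⟨G, hG⟩ := (h : Module.Finite R S).fg_top
  refine ⟨G, (Subring.eq_top_iff' _).mpr fun s => ?_⟩
  have hs : s ∈ Submodule.span R (G : Set S) := by rw [hG]; trivial
  induction hs using Submodule.span_induction with
  | mem y hy => exact Subring.subset_closure (Or.inr hy)
  | zero => exact zero_mem _
  | add y z _ _ hy hz => exact add_mem hy hz
  | smul c y _ hy =>
    rw [Algebra.smul_def]
    exact mul_mem (Subring.subset_closure (Or.inl ⟨c, rfl⟩)) hy

/-- `A` is F-finite if it is generated, as a ring, by the image of an F-finite ring, finitely many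
elements and its `p`-th powers. -/
theorem finite_frobenius_of_generators {R A : Type u} [CommRing R] [CharP R p] [CommRing A] [CharP A p]
    (hR : (frobenius R p).Finite) (f : R →+* A) (X : Finset A)
    (h : Subring.closure (Set.range f ∪ ↑X ∪ Set.range (frobenius A p)) = ⊤) :
    (frobenius A p).Finite := by
  classical
  obtain ⟨G, hG⟩ := exists_generators (frobenius R p) hR
  refine RingHom.IsIntegral.to_finite (fun a => ?_) ?_
  · exact ⟨Polynomial.X ^ p - Polynomial.C a, Polynomial.monic_X_pow_sub_C _ (Fact.out : p.Prime).ne_zero,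
      by simp [frobenius_def]⟩
  · refine finiteType_of_closure _ (G.image f ∪ X) (eq_top_iff.mpr ?_)
    rw [← h, Subring.closure_le]
    rintro x ((⟨r, rfl⟩ | hx) | ⟨c, rfl⟩)
    · have hr : r ∈ (Subring.closure (Set.range (frobenius A p) ∪ ↑(G.image f ∪ X))).comap f := by
        have htop : (⊤ : Subring R) ≤
            (Subring.closure (Set.range (frobenius A p) ∪ ↑(G.image f ∪ X))).comap f := by
          rw [← hG, Subring.closure_le]
          rintro y (⟨c, rfl⟩ | hy)
          · exact Subring.subset_closure (Or.inl ⟨f c, (RingHom.map_frobenius f p c).symm⟩)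
          · exact Subring.subset_closure (Or.inr (Finset.mem_union_left _ (Finset.mem_image_of_mem f hy)))
        exact htop trivial
      exact hr
    · exact Subring.subset_closure (Or.inr (Finset.mem_union_right _ hx))
    · exact Subring.subset_closure (Or.inl ⟨c, rfl⟩)

theorem finite_frobenius_quotient {A : Type u} [CommRing A] [CharP A p] (hF : (frobenius A p).Finite)
    (I : Ideal A) [CharP (A ⧸ I) p] : (frobenius (A ⧸ I) p).Finite :=
  finite_frobenius_of_generators p hF (Ideal.Quotient.mk I) ∅ (by
    rw [eq_top_iff]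
    intro a _
    obtain ⟨r, rfl⟩ := Ideal.Quotient.mk_surjective a
    exact Subring.subset_closure (Or.inl (Or.inl ⟨r, rfl⟩)))

theorem finite_frobenius_localization {A : Type u} [CommRing A] [CharP A p] (hF : (frobenius A p).Finite)
    (S : Submonoid A) (B : Type u) [CommRing B] [Algebra A B] [IsLocalization S B] [CharP B p] :
    (frobenius B p).Finite :=
  finite_frobenius_of_generators p hF (algebraMap A B) ∅ (by
    rw [eq_top_iff]
    intro b _
    obtain ⟨⟨a, s⟩, hs⟩ := IsLocalization.surj S b
    obtain ⟨u, hu⟩ := IsLocalization.map_units B s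
    obtain ⟨q, hq⟩ := Nat.exists_eq_succ_of_ne_zero (Fact.out : p.Prime).ne_zero
    have hb : b = frobenius B p ((u⁻¹ : Bˣ) : B) * algebraMap A B (a * (s : A) ^ q) := by
      rw [frobenius_def, map_mul, map_pow, ← hs, ← hu, hq, mul_assoc b,
        ← pow_succ', mul_left_comm, ← mul_pow, Units.inv_mul, one_pow, mul_one]
    rw [hb]
    exact mul_mem (Subring.subset_closure (Or.inr ⟨_, rfl⟩))
      (Subring.subset_closure (Or.inl (Or.inl ⟨_, rfl⟩))))

theorem finite_frobenius_of_perfectRing (R : Type u) [CommRing R] [CharP R p] [PerfectRing R p] :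
    (frobenius R p).Finite :=
  RingHom.Finite.of_surjective _ (bijective_frobenius R p).2

end Groth.Agent.FFinite23
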